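import Cfsg.Agent.H190.Exc.RowE6
import Cfsg.Agent.S0000
import Cfsg.Agent.S4008
import Cfsg.Agent.H566.Main
import Cfsg.Agent.OrdDiv.Table

/-!
# TEAM ELUSIVE: `E₆(q)`, `²E₆(q)`, the final statements
-/

set_option autoImplicit false

namespace Cfsg.Agent.H190.Exc

open Cfsg Cfsg.Lie Cfsg.Agent.OrdDiv Cfsg.Agent.H264.FKS Cfsg.Agent.H278.El Cfsg.Agent.H290.ElEng
  Cfsg.Agent.H290.ElRich

universe u

theorem asThm : ASThm.{u} := fun _ _ _ h1 h2 r h3 h4 h5 h6 R _ h7 h8 => Cfsg.Agent.S4008.result h1 h2 r h3 h4 h5 h6 R h7 h8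

theorem richFix : RichFix.{u} := fun _ _ _ _ _ h1 h2 h3 =>
  (Cfsg.Agent.H566.rich_sub (fun _ _ _ _ => Cfsg.Agent.S0000.result) h1 h2 h3).1

theorem Full.congr {T S : Type*} [Group T] [Group S] (e : T ≃* S) {R : Subgroup S} (h : Full S R) :
    Full T (R.comap e.toMonoidHom) := by
  intro r hr hd
  have h1 : Nat.card (R.comap e.toMonoidHom) = Nat.card R := by
    refine Nat.card_congr ⟨fun x => ⟨e x, x.2⟩, fun y => ⟨e.symm y, ?_⟩, fun x => ?_, fun y => ?_⟩
    · show e (e.symm y) ∈ R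
      rw [e.apply_symm_apply]
      exact y.2
    · exact Subtype.ext (e.symm_apply_apply _)
    · exact Subtype.ext (e.apply_symm_apply _)
  rw [h1]
  exact h r hr (by rwa [Nat.card_congr e.symm.toEquiv])

theorem full_of_equiv {T S : Type*} [Group T] [Group S] (e : T ≃* S)
    (h : ∀ R : Subgroup T, Full T R → R = ⊤) (R : Subgroup S) (hR : Full S R) : R = ⊤ := by
  have h1 := h _ (Full.congr e hR)
  rw [eq_top_iff]
  intro x _
  have h2 : e.symm x ∈ R.comap e.toMonoidHom := by rw [h1]; trivial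
  have h3 : e (e.symm x) ∈ R := h2
  rwa [e.apply_symm_apply] at h3

theorem clMaxA_of_full {T : Type*} [Group T] [Finite T] (h : ∀ R : Subgroup T, Full T R → R = ⊤) : ClMaxA T := by
  intro M hM
  by_cases hf : Full T M
  · exact absurd (h M hf) hM.1
  · obtain ⟨r, hr, h1, h2⟩ := exists_of_not_full hf
    exact H396.der_of_prime hr h1 h2

/-- **`E₆(q)`**: a subgroup with the same primes is the whole group. -/
theorem full_isoE6 {T : Type*} [Group T] (h : IsoChevE6 T) (R : Subgroup T) (hR : Full T R) : R = ⊤ := by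
  obtain ⟨F, _, _, ⟨e⟩⟩ := h
  exact full_of_equiv e.symm (fun R hR => full_e6 table (fun _ _ _ _ => Cfsg.Agent.S0000.result) asThm richFix hR) R hR

/-- **`²E₆(q)`**: a subgroup with the same primes is the whole group. -/
theorem full_isoTE6 {T : Type*} [Group T] (h : Iso2E6 T) (R : Subgroup T) (hR : Full T R) : R = ⊤ := by
  obtain ⟨K, _, _, q, hq, hK, ⟨e⟩⟩ := h
  exact full_of_equiv e.symm
    (fun R hR => full_te6 table (fun _ _ _ _ => Cfsg.Agent.S0000.result) asThm richFix hq hK hR) R hR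

theorem clMaxA_isoE6 {T : Type*} [Group T] (h : IsoChevE6 T) : ClMaxA T := by
  obtain ⟨F, _, _, ⟨e⟩⟩ := id h
  have : Finite T := Finite.of_equiv _ e.symm.toEquiv
  exact clMaxA_of_full (full_isoE6 h)

theorem clMaxA_isoTE6 {T : Type*} [Group T] (h : Iso2E6 T) : ClMaxA T := by
  obtain ⟨K, _, _, q, hq, hK, ⟨e⟩⟩ := id h
  have : Finite T := Finite.of_equiv _ e.symm.toEquiv
  exact clMaxA_of_full (full_isoTE6 h)

end Cfsg.Agent.H190.Exc
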