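import Cfsg.Agent.H290.ElWt

/-!
# Weights and elements with small fixed point groups

`modEq_card_wts` : `A` an elementary abelian normal `t`-subgroup, `y` of prime order `ℓ` commuting with at most `t`
elements of `A`: the number of nontrivial weights of `A` is congruent modulo `ℓ` to a number less than `t`.
`eq_bot_of_cong` : the resulting criterion for `A = 1` in linear groups.
-/

set_option autoImplicit false

namespace Cfsg.Agent.H190.Exc

open Module Cfsg.Agent.H912.Bd Cfsg.Agent.H290.ElWt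

section Free

variable {K : Type*} [Field K] {V : Type*} [AddCommGroup V] [Module K V] {G : Type*} [Group G]
  [FiniteDimensional K V] (ρ : G →* Module.End K V) {A : Subgroup G} [A.Normal]
  (hA : ∀ a ∈ A, ∀ b ∈ A, a * b = b * a) {t : ℕ} (ht : t.Prime) (hN : (t : K) ≠ 0) (hAN : ∀ a ∈ A, a ^ t = 1)

include hA ht hN hAN in
theorem modEq_card_wts [Finite G] {y : G} {ℓ : ℕ} (hℓ : ℓ.Prime) (hy : orderOf y = ℓ)
    (fy : Nat.card {a : G // a ∈ A ∧ y * a = a * y} ≤ t) :
    ∃ f < t, Nat.card (Wts ρ A) ≡ f [MOD ℓ] := by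
  classical
  have := Fact.mk hℓ
  have := Fact.mk ht
  have hfin := (finite_wts ρ hA hN hAN).1
  have hP : IsPGroup ℓ (Subgroup.zpowers y) := IsPGroup.of_card (n := 1) (by rw [Nat.card_zpowers, hy, pow_one])
  have h1 := hP.card_modEq_card_fixedPoints (Wts ρ A)
  refine ⟨_, ?_, h1⟩
  -- the homomorphism `a ↦ a⁻¹ a^y`
  have hcA : ∀ a b : A, a * b = b * a := fun a b => Subtype.ext (hA a a.2 b b.2)
  let cA : CommGroup A := { (inferInstance : Group A) with mul_comm := hcA }
  have hconj : ∀ a : A, y * a * y⁻¹ ∈ A := fun a => (inferInstance : A.Normal).conj_mem a a.2 y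
  let g : A →* A :=
    { toFun := fun a => ⟨(a : G)⁻¹ * (y * a * y⁻¹), mul_mem (inv_mem a.2) (hconj a)⟩
      map_one' := Subtype.ext (by simp)
      map_mul' := fun a b => Subtype.ext (by
        show ((a : G) * b)⁻¹ * (y * (a * b) * y⁻¹) = (a : G)⁻¹ * (y * a * y⁻¹) * ((b : G)⁻¹ * (y * b * y⁻¹))
        have e1 : (b : G)⁻¹ * ((a : G)⁻¹ * (y * a * y⁻¹)) = ((a : G)⁻¹ * (y * a * y⁻¹)) * (b : G)⁻¹ :=
          hA _ (inv_mem b.2) _ (mul_mem (inv_mem a.2) (hconj a))
        calc ((a : G) * b)⁻¹ * (y * (a * b) * y⁻¹)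
            = ((b : G)⁻¹ * ((a : G)⁻¹ * (y * a * y⁻¹))) * (y * b * y⁻¹) := by group
          _ = _ := by rw [e1]; group) }
  have hker : Nat.card g.ker ≤ t := by
    refine le_trans (Nat.card_le_card_of_injective (β := {a : G // a ∈ A ∧ y * a = a * y})
      (fun a => ⟨(a : A), (a : A).2, ?_⟩) ?_) fy
    · have h2 : g (a : A) = 1 := a.2
      have h3 : ((a : A) : G)⁻¹ * (y * (a : A) * y⁻¹) = 1 := congrArg Subtype.val h2
      have h4 : y * ((a : A) : G) * y⁻¹ = (a : A) := by
        rw [inv_mul_eq_one] at h3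
        exact h3.symm
      rw [mul_inv_eq_iff_eq_mul] at h4
      exact h4
    · intro a b hab
      exact Subtype.ext (Subtype.ext (congrArg (fun z => z.1) hab))
  -- the quotient is of order `1` or `t`
  have hq : Nat.card (A ⧸ g.range) ≤ t := by
    have h2 : Nat.card A = Nat.card (A ⧸ g.range) * Nat.card g.range := Subgroup.card_eq_card_quotient_mul_card_subgroup _
    have h3 : Nat.card A = Nat.card (A ⧸ g.ker) * Nat.card g.ker := Subgroup.card_eq_card_quotient_mul_card_subgroup _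
    have h4 : Nat.card (A ⧸ g.ker) = Nat.card g.range := Nat.card_congr (QuotientGroup.quotientKerEquivRange g).toEquiv
    have h5 : 0 < Nat.card g.range := Nat.card_pos
    have h6 : Nat.card (A ⧸ g.range) * Nat.card g.range = Nat.card g.ker * Nat.card g.range := by
      rw [← h2, h3, h4, mul_comm]
    rw [Nat.eq_of_mul_eq_mul_right h5 h6]
    exact hker
  have hPA : IsPGroup t A := fun a => ⟨1, by rw [pow_one]; exact Subtype.ext (hAN a a.2)⟩
  obtain ⟨b, hb⟩ : ∃ b : A, ∀ a : A, ∃ (i : ℕ) (c : A), a = b ^ i * g c := by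
    obtain ⟨n, hn⟩ := IsPGroup.iff_card.1 (hPA.to_quotient g.range)
    have hn1 : n ≤ 1 := by
      by_contra hcon
      have h2 : t ^ 2 ≤ t ^ n := Nat.pow_le_pow_right ht.pos (by omega)
      have h3 : t * 2 ≤ t ^ 2 := by rw [sq]; exact Nat.mul_le_mul_left _ ht.two_le
      have := ht.two_le
      omega
    have hcyc : IsCyclic (A ⧸ g.range) := by
      rcases Nat.eq_zero_or_pos n with h0 | h0
      · subst h0
        rw [pow_zero] at hn
        have : Subsingleton (A ⧸ g.range) := (Nat.card_eq_one_iff_unique.1 hn).1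
        infer_instance
      · have : n = 1 := by omega
        subst this
        exact isCyclic_of_prime_card (p := t) (by rw [hn, pow_one])
    obtain ⟨b', hb'⟩ := hcyc.exists_generator
    obtain ⟨b, rfl⟩ := QuotientGroup.mk_surjective b'
    refine ⟨b, fun a => ?_⟩
    have h2 := hb' (QuotientGroup.mk a)
    rw [← mem_powers_iff_mem_zpowers] at h2
    obtain ⟨i, hi⟩ := h2
    have h3 : QuotientGroup.mk (s := g.range) (b ^ i) = QuotientGroup.mk a := hi
    rw [QuotientGroup.eq] at h3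
    obtain ⟨c, hc⟩ := h3
    exact ⟨i, c, by rw [hc, mul_inv_cancel_left]⟩
  -- the values of the fixed weights at `b`
  have hfix : ∀ χ : Wts ρ A, χ ∈ MulAction.fixedPoints (Subgroup.zpowers y) (Wts ρ A) → ∀ c, χ.1 (g c) = 1 := by
    intro χ hχ c
    have h3 : y⁻¹ • χ = χ := hχ ⟨y⁻¹, inv_mem (Subgroup.mem_zpowers y)⟩
    have h4 : tw A y⁻¹ χ.1 = χ.1 := congrArg Subtype.val h3
    have h5 : g c = c⁻¹ * ⟨y * c * y⁻¹, hconj c⟩ := rfl
    rw [h5, wt_mul ρ χ.2.1]
    have h12 : χ.1 ⟨y * c * y⁻¹, hconj c⟩ = χ.1 c := by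
      have h13 := congrFun h4 c
      rw [← h13]
      exact congrArg χ.1 (Subtype.ext (by simp))
    rw [h12, ← wt_mul ρ χ.2.1, inv_mul_cancel, wt_one ρ χ.2.1]
  have hpow : ∀ χ : Wts ρ A, ∀ (a : A) (i : ℕ), χ.1 (a ^ i) = χ.1 a ^ i := by
    intro χ a i
    induction i with
    | zero => rw [pow_zero, pow_zero, wt_one ρ χ.2.1]
    | succ i ih => rw [pow_succ, pow_succ, wt_mul ρ χ.2.1, ih]
  have hval : ∀ χ : Wts ρ A, χ ∈ MulAction.fixedPoints (Subgroup.zpowers y) (Wts ρ A) →
      χ.1 b ∈ (Polynomial.nthRoots t (1 : K)).toFinset.erase 1 := by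
    intro χ hχ
    rw [Finset.mem_erase, Multiset.mem_toFinset, Polynomial.mem_nthRoots ht.pos]
    refine ⟨fun h2 => ?_, ?_⟩
    · obtain ⟨a, ha⟩ := χ.2.2
      apply ha
      obtain ⟨i, c, rfl⟩ := hb a
      rw [wt_mul ρ χ.2.1, hpow, h2, one_pow, hfix χ hχ, mul_one]
    · rw [← hpow, show b ^ t = 1 from Subtype.ext (hAN b b.2), wt_one ρ χ.2.1]
  have hcard : ((Polynomial.nthRoots t (1 : K)).toFinset.erase 1).card < t := by
    have h2 : (1 : K) ∈ (Polynomial.nthRoots t (1 : K)).toFinset := by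
      rw [Multiset.mem_toFinset, Polynomial.mem_nthRoots ht.pos, one_pow]
    have h3 := Finset.card_erase_lt_of_mem h2
    have h4 := (Multiset.toFinset_card_le (Polynomial.nthRoots t (1 : K))).trans (Polynomial.card_nthRoots t (1 : K))
    omega
  refine lt_of_le_of_lt ?_ hcard
  refine le_trans (Nat.card_le_card_of_injective
    (β := {z : K // z ∈ (Polynomial.nthRoots t (1 : K)).toFinset.erase 1})
    (fun χ => ⟨χ.1.1 b, hval χ.1 χ.2⟩) ?_) ?_
  · intro χ ψ h
    have h2 : χ.1.1 b = ψ.1.1 b := congrArg Subtype.val h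
    refine Subtype.ext (Subtype.ext (funext fun a => ?_))
    obtain ⟨i, c, rfl⟩ := hb a
    rw [wt_mul ρ χ.1.2.1, wt_mul ρ ψ.1.2.1, hpow, hpow, h2, hfix χ.1 χ.2, hfix ψ.1 ψ.2]
  · rw [Nat.card_eq_fintype_card, Fintype.card_coe]

end Free

section Lin

variable {F : Type*} [Field F] {ι : Type*} [Fintype ι] [DecidableEq ι] {G : Type*} [Group G] [Finite G]

/-- **Congruences for the number of weights of an elementary abelian normal `t`-subgroup.** -/
theorem eq_bot_of_cong {p : ℕ} [Fact p.Prime] [CharP F p] {τ : G →* GL ι F} (hτ : Function.Injective τ)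
    {A : Subgroup G} [A.Normal] (hA : ∀ a ∈ A, ∀ b ∈ A, a * b = b * a) {t : ℕ} (ht : t.Prime) (htp : t ≠ p)
    (hAt : ∀ a ∈ A, a ^ t = 1) {x y z : G} {ℓ s u : ℕ} (hℓ : ℓ.Prime) (hs : s.Prime) (hu : u.Prime)
    (hx : orderOf x = ℓ) (hy : orderOf y = s) (hz : orderOf z = u)
    (fx : ∀ a ∈ A, x * a = a * x → a = 1) (fy : Nat.card {a : G // a ∈ A ∧ y * a = a * y} ≤ t)
    (fz : Nat.card {a : G // a ∈ A ∧ z * a = a * z} ≤ t)
    (hnum : ∀ m, 0 < m → m ≤ Fintype.card ι → ℓ ∣ m → (∃ f < t, m ≡ f [MOD s]) → (∃ f < t, m ≡ f [MOD u]) → False) :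
    A = ⊥ := by
  have : CharP (AlgebraicClosure F) p := charP_of_injective_algebraMap (algebraMap F _).injective p
  have hN : ((t : ℕ) : AlgebraicClosure F) ≠ 0 := by
    intro h
    exact htp ((Nat.prime_dvd_prime_iff_eq Fact.out ht).1 ((CharP.cast_eq_zero_iff (AlgebraicClosure F) p _).1 h)).symm
  obtain ⟨hfin, hle⟩ := finite_wts (cl τ) hA hN hAt
  have h1 := dvd_card_wts (cl τ) hA hN hAt hℓ hx fx
  have h2 := modEq_card_wts (cl τ) hA ht hN hAt hs hy fy
  have h3 := modEq_card_wts (cl τ) hA ht hN hAt hu hz fz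
  have h4 : Nat.card (Wts (cl τ) A) = 0 := by
    by_contra h0
    exact hnum _ (Nat.pos_of_ne_zero h0) (by simpa using hle) h1 h2 h3
  have h5 : IsEmpty (Wts (cl τ) A) := by
    rcases Nat.card_eq_zero.1 h4 with h | h
    · exact h
    · exact absurd hfin (not_finite_iff_infinite.2 h)
  rw [eq_bot_iff]
  intro a ha
  refine Subgroup.mem_bot.2 (cl_injective hτ ?_)
  by_contra hne'
  obtain ⟨χ, hχ, hχa⟩ := exists_wt (cl τ) hA hN hAt (c := ⟨a, ha⟩) hne'
  exact h5.false ⟨χ, hχ, ⟨_, hχa⟩⟩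

end Lin

/-- the elements of prime order `t` commuting with an element with a cyclic centraliser -/
theorem card_comm_le {G : Type*} [Group G] [Finite G] {A : Subgroup G} {t : ℕ} (ht : t.Prime) (hAt : ∀ a ∈ A, a ^ t = 1)
    {y : G} (hc : IsCyclic ↥(Subgroup.centralizer ({y} : Set G))) : Nat.card {a : G // a ∈ A ∧ y * a = a * y} ≤ t := by
  classical
  have := Fintype.ofFinite ↥(Subgroup.centralizer ({y} : Set G))
  refine le_trans ?_ (IsCyclic.card_pow_eq_one_le (α := ↥(Subgroup.centralizer ({y} : Set G))) (n := t) ht.pos)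
  rw [← Fintype.card_coe, ← Nat.card_eq_fintype_card]
  refine Nat.card_le_card_of_injective (fun a => ⟨⟨a.1, ?_⟩, ?_⟩) ?_
  · rw [Subgroup.mem_centralizer_singleton_iff]
    exact a.2.2.symm
  · rw [Finset.mem_filter]
    exact ⟨Finset.mem_univ _, Subtype.ext (hAt _ a.2.1)⟩
  · intro a b hab
    have := congrArg (fun z => ((z.1 : ↥(Subgroup.centralizer ({y} : Set G))) : G)) hab
    exact Subtype.ext this

end Cfsg.Agent.H190.Exc
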