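import Cfsg.Agent.H290.ElFin
import Cfsg.Agent.H290.ElRich
import Cfsg.Agent.H264.FKS.Res
import Cfsg.Agent.H264.FKS.Rows
import Cfsg.Agent.H190.Exc.Main
import Cfsg.Agent.H190.Exc.Wt3

/-!
# TEAM ELUSIVE: almost simple subgroups of exceptional groups, the engine

`exists_char` : `T` of exceptional shape `Y` over the field of `p ^ f` elements, faithful of degree `n` in characteristic
`p`; `R ≤ T` with `π(R) = π(T)` and without solvable normal subgroups: `R` has a simple normal subgroup `S` with trivial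
centraliser, of Lie type in characteristic `p`.
-/

set_option autoImplicit false

namespace Cfsg.Agent.H190.Exc

open Cfsg Cfsg.Agent.OrdDiv Cfsg.Agent.H436 Cfsg.Agent.H915.GN Cfsg.Agent.H264.FKS Cfsg.Agent.H902
  Cfsg.Agent.H902.Names Cfsg.Agent.H290.ElReg Cfsg.Agent.H290.ElTab Cfsg.Agent.H290.ElCross Cfsg.Agent.H290.ElEng
  Cfsg.Agent.H290.ElRich

/-- names of Lie type, alternating, or sporadic -/
theorem named_cases {g : Grp} (h : Cond g) :
    (∃ l, l.Prime ∧ HasChar l g) ∨ (∃ m, 5 ≤ m ∧ g = .alt m) ∨ ∃ x ∈ spor, x.1 = g := by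
  have key : ∀ {q : ℕ}, IsPrimePow q → ∃ l, l.Prime ∧ ∃ f, q = l ^ f := fun {q} hq => by
    obtain ⟨l, k, hl, -, hk⟩ := (isPrimePow_nat_iff _).1 hq
    exact ⟨l, hl, k, hk.symm⟩
  cases g
  case alt m => exact Or.inr (Or.inl ⟨m, h, rfl⟩)
  case psl n q => exact Or.inl (key h.2.2)
  case psp n q => exact Or.inl (key h.2.2)
  case psu n q => exact Or.inl (key h.2.2)
  case oodd n q => exact Or.inl (key h.2.2)
  case oplus n q => exact Or.inl (key h.2)
  case ominus n q => exact Or.inl (key h.2)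
  case g2 q => exact Or.inl (key h.2)
  case f4 q => exact Or.inl (key h)
  case e6 q => exact Or.inl (key h)
  case e7 q => exact Or.inl (key h)
  case e8 q => exact Or.inl (key h)
  case te6 q => exact Or.inl (key h)
  case td4 q => exact Or.inl (key h)
  case sz q =>
    obtain ⟨m, -, rfl⟩ := h
    exact Or.inl ⟨2, Nat.prime_two, 2 * m + 1, rfl⟩
  case ree q =>
    obtain ⟨m, -, rfl⟩ := h
    exact Or.inl ⟨3, Nat.prime_three, 2 * m + 1, rfl⟩
  case tf4 q =>
    obtain ⟨m, -, rfl⟩ := h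
    exact Or.inl ⟨2, Nat.prime_two, 2 * m + 1, rfl⟩
  all_goals
    right; right
    simp [spor]

theorem nilp_of_cyc {G : Type*} [Group G] (h : IsCyclic G) : Group.IsNilpotent G := by
  let _ := h.commGroup
  infer_instance

/-- **Almost simple subgroups: the characteristic of the socle.** -/
theorem exists_char (OT' : OrderTable.{0})
    (hS0 : ∀ (X : Type) [Group X] [Finite X] [IsSimpleGroup X], IsKnownSimple' X) (has : ASThm.{0})
    (hrf : RichFix.{0}) {Y : Art.Sh} (hY : Y ∈ exl) {n : ℕ} (hn : n ≤ 248) (hsurv : surv n Y = [])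
    (hsurvS : survS Y = []) {p f : ℕ} {F : Type} [Field F] [CharP F p] {T : Type} [Group T] [Finite T]
    (hF : Fth n F T) (hRT : Art.Real Y p f (Nat.card T)) (hdd : Art.dd Y (p ^ f) ∣ 6)
    (hcc : ∀ e ∈ ER Y, ∀ r, Prim p (e * f) r → 5 ≤ r ∧ r ∣ Nat.card T ∧ CC T r)
    (halt : ∃ r s, (∃ e ∈ ER Y, Prim p (e * f) r) ∧ (∃ e ∈ ER Y, Prim p (e * f) s) ∧ r + 4 ≤ s)
    {r₀ : ℕ} (hr₀ : r₀.Prime) (hr2 : r₀ ≠ 2) (hrT : r₀ ∣ Nat.card T) (hodd : ∀ g : T, orderOf g ≠ 2 * r₀)
    (h2 : 2 ∣ Nat.card T) {R : Subgroup T} (hfull : Full T R)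
    (hrad : ∀ N : Subgroup R, N.Normal → Group.IsSolvable N → N = ⊥) :
    ∃ S : Subgroup R, S.Normal ∧ IsSimpleGroup S ∧ ¬ IsMulCommutative S ∧
      Subgroup.centralizer (S : Set R) = ⊥ ∧ ∃ g, IsNamed g S ∧ HasChar p g := by
  obtain ⟨hp, hf, hok, heq⟩ := id hRT
  have hOT : Art.dd Y (p ^ f) * Nat.card T = OT Y p f := heq
  have hdvd : Nat.card R ∣ OT Y p f := by
    rw [← hOT]
    exact (Subgroup.card_subgroup_dvd_card R).mul_left _
  have hall : ∀ r, r.Prime → r ∣ OT Y p f → r ∣ 6 ∨ r ∣ Nat.card R := by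
    intro r hr h
    rw [← hOT] at h
    rcases hr.dvd_mul.1 h with h3 | h3
    · exact Or.inl (h3.trans hdd)
    · exact Or.inr (hfull r hr h3)
  obtain ⟨S, hSn, hSs, hSna, hSc⟩ := exists_socle has hrad (hfull 2 Nat.prime_two h2) hr₀ hr2
    (hfull r₀ hr₀ hrT) fun g hg => hodd (g : T) (by rw [Subgroup.orderOf_coe, hg])
  refine ⟨S, hSn, hSs, hSna, hSc, ?_⟩
  have hccR : ∀ e ∈ ER Y, ∀ r, Prim p (e * f) r → r ∣ Nat.card S := by
    intro e he r hr
    obtain ⟨-, h4, h5⟩ := hcc e he r hr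
    refine dvd_socle_rich hrf hSn hSs hSna hr.prime (hfull r hr.prime h4) fun x hx => ?_
    exact nilp_of_cyc (CC.of_inj (ι := R.subtype) R.subtype_injective h5 x hx)
  obtain ⟨g, hg⟩ := exists_named OT' (hS0 S) fun h => hSna ⟨⟨h⟩⟩
  refine ⟨g, hg, ?_⟩
  have hdS : Nat.card S ∣ OT Y p f := (Subgroup.card_subgroup_dvd_card S).trans hdvd
  rcases named_cases hg.cond with ⟨l, hl, hch⟩ | ⟨m, hm, rfl⟩ | ⟨x, hx, rfl⟩
  · by_cases hlp : l = p
    · exact hlp ▸ hch
    · exfalso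
      obtain ⟨X, a, h3, h4, -⟩ := exists_lie hl hg hch
      have h5 : ((X, (l, a)), (p, f)) ∈ surv n Y := by
        refine mem_surv hn hY h4 ?_ hp hf (fun h => hlp h.symm) hok (fun r hr hrd => ?_) hccR hdS
        · refine lb_le (fun hcc' => hSna ⟨⟨hcc'⟩⟩) hn (hF.sub ((R.subtype).comp S.subtype)
            (R.subtype_injective.comp S.subtype_injective)) h3 hg.real h4 (fun h0 => hlp ?_)
          exact ((Nat.prime_dvd_prime_iff_eq hp hl).1 ((CharP.cast_eq_zero_iff F p l).1 h0)).symm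
        · rcases hall r hr hrd with h6 | h6
          · exact (((h6.trans (by norm_num : 6 ∣ 24)).mul_right _).mul_right _).mul_right _
          · exact H290.ElFin.prime_dvd_NA hSna h3 hg.real h4 hr (h6.trans (card_dvd_aut hSc))
      rw [hsurv] at h5
      exact List.not_mem_nil h5
  · exfalso
    obtain ⟨e⟩ := hg.real
    obtain ⟨r, s, ⟨e₁, he₁, hr⟩, ⟨e₂, he₂, hs⟩, hrs⟩ := halt
    obtain ⟨h5, -, h6⟩ := hcc e₁ he₁ r hr
    refine not_alt hr.prime hs.prime h5 hrs (by omega) e (hccR e₁ he₁ r hr) (hccR e₂ he₂ s hs) fun x hx => ?_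
    exact nilp_of_cyc (CC.of_inj (ι := (R.subtype).comp S.subtype)
      (R.subtype_injective.comp S.subtype_injective) h6 x hx)
  · exfalso
    have hc : Nat.card S = x.2 := OT'.spor S x hx hg.real
    have h5 : (x.2, (p, f)) ∈ survS Y := by
      refine mem_survS hY hx hp hf hok (fun r hr hrd => ?_) (hc ▸ hdS)
      rcases hall r hr hrd with h6 | h6
      · exact h6.trans (H290.ElFin.six_dvd x hx)
      rw [← hc]
      refine H290.ElFin.prime_dvd_of_oddInn hSc (H290.ElFin.oddInn_of_spor hx hg.real) ?_ hr h6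
      have hns : ¬ Group.IsSolvable S := fun hs => hSna ⟨⟨IsSimpleGroup.comm_iff_isSolvable.2 hs⟩⟩
      by_contra h2'
      exact hns (Cfsg.Agent.S0205.result (Nat.not_even_iff_odd.1 fun h3 => h2' (even_iff_two_dvd.1 h3)))
    rw [hsurvS] at h5
    exact List.not_mem_nil h5

end Cfsg.Agent.H190.Exc
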