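import Cfsg.Agent.H190.Exc.Engine
import Cfsg.Agent.H190.Exc.CycE6

/-!
# TEAM ELUSIVE: subgroups of `E₆(q)` and `²E₆(q)` without solvable normal subgroups

`rad_tri` : three classes of primes with cyclic centralisers.
-/

set_option autoImplicit false

namespace Cfsg.Agent.H190.Exc

open Cfsg Cfsg.Agent.H290.ElEng Cfsg.Agent.H290.ElWt
open Cfsg.Agent.H436 (Prim exists_prim)

/-! ### arithmetic -/

section Field

variable {K : Type*} [Field K] {a : K}

theorem ar1 (h9 : a ^ 6 + a ^ 3 + 1 = 0) (h12 : (a ^ 4 - a ^ 2 + 1) * (a ^ 2 + a + 1) = 0) : (3 : K) = 0 := by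
  have h1 : a ^ 9 = 1 := by linear_combination (a ^ 3 - 1) * h9
  have h2 : a ^ 12 = 1 := by
    rcases mul_eq_zero.1 h12 with h | h
    · have h3 : a ^ 6 = -1 := by linear_combination (a ^ 2 + 1) * h
      linear_combination (a ^ 6 - 1) * h3
    · have h3 : a ^ 3 = 1 := by linear_combination (a - 1) * h
      linear_combination (a ^ 9 + a ^ 6 + a ^ 3 + 1) * h3
  have h3 : a ^ 3 = 1 := by linear_combination h2 - a ^ 3 * h1
  linear_combination h9 - (a ^ 3 + 2) * h3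

theorem ar2 (h9 : a ^ 6 + a ^ 3 + 1 = 0) (h8 : (a ^ 4 + 1) * (a ^ 2 - 1) = 0) : (3 : K) = 0 := by
  have h1 : a ^ 9 = 1 := by linear_combination (a ^ 3 - 1) * h9
  have h2 : a ^ 8 = 1 := by
    rcases mul_eq_zero.1 h8 with h | h
    · linear_combination (a ^ 4 - 1) * h
    · linear_combination (a ^ 6 + a ^ 4 + a ^ 2 + 1) * h
  have h3 : a = 1 := by linear_combination h1 - a * h2
  rw [h3] at h9
  linear_combination h9

theorem ar3 (h12 : (a ^ 4 - a ^ 2 + 1) * (a ^ 2 + a + 1) = 0) (h8 : (a ^ 4 + 1) * (a ^ 2 - 1) = 0) :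
    (3 : K) = 0 := by
  have h2 : a ^ 12 = 1 := by
    rcases mul_eq_zero.1 h12 with h | h
    · have h3 : a ^ 6 = -1 := by linear_combination (a ^ 2 + 1) * h
      linear_combination (a ^ 6 - 1) * h3
    · have h3 : a ^ 3 = 1 := by linear_combination (a - 1) * h
      linear_combination (a ^ 9 + a ^ 6 + a ^ 3 + 1) * h3
  have h1 : a ^ 8 = 1 := by
    rcases mul_eq_zero.1 h8 with h | h
    · linear_combination (a ^ 4 - 1) * h
    · linear_combination (a ^ 6 + a ^ 4 + a ^ 2 + 1) * h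
  have h4 : a ^ 4 = 1 := by linear_combination h2 - a ^ 4 * h1
  have h5 : 2 * (a ^ 2 - 1) = 0 := by linear_combination h8 - (a ^ 2 - 1) * h4
  rcases mul_eq_zero.1 h5 with h | h
  · have h6 : (a - 1) ^ 4 = 0 := by linear_combination h4 + (-2 * a ^ 3 + 3 * a ^ 2 - 2 * a + 1) * h
    have h7 : a = 1 := sub_eq_zero.1 (pow_eq_zero_iff (by norm_num) |>.1 h6)
    rw [h7] at h12
    linear_combination h12
  · have h6 : a ^ 2 = 1 := sub_eq_zero.1 h
    have h7 : a = -2 := by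
      have h8' : a ^ 4 = 1 := h4
      have : (a ^ 4 - a ^ 2 + 1) * (a ^ 2 + a + 1) = a + 2 := by
        rw [h8', h6]; ring
      rw [this] at h12
      linear_combination h12
    rw [h7] at h6
    linear_combination h6

end Field

/-- the numerical exclusion of the orbit lengths -/
theorem num78 {ℓ s u : ℕ} (hℓ : ℓ.Prime) (hs : s.Prime) (hu : u.Prime) (h1 : 9 ∣ ℓ - 1) (h2 : 12 ∣ s - 1)
    (h3 : 8 ∣ u - 1) (hls : ℓ ≠ s) (hlu : ℓ ≠ u) (hsu : s ≠ u) {m : ℕ} (h0 : 0 < m) (hm : m ≤ 78) (hd : ℓ ∣ m)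
    (hms : ∃ f < 3, m ≡ f [MOD s]) (hmu : ∃ f < 3, m ≡ f [MOD u]) : False := by
  have hℓm : ℓ ≤ m := Nat.le_of_dvd h0 hd
  have hsmall : ∀ {v : ℕ}, v.Prime → 3 < v → (∃ f < 3, m ≡ f [MOD v]) → m % v < 3 := by
    rintro v hv hv3 ⟨f, hf, hmf⟩
    have : m % v = f % v := hmf
    rw [this, Nat.mod_eq_of_lt (by omega)]
    exact hf
  have hl2 := hℓ.two_le
  have hs2 := hs.two_le
  have hu2 := hu.two_le
  have hl9 : 10 ≤ ℓ := by
    obtain ⟨k, hk⟩ := h1
    rcases k with _ | k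
    · omega
    · omega
  have hs12 : 13 ≤ s := by
    obtain ⟨k, hk⟩ := h2
    rcases k with _ | k
    · omega
    · omega
  have hu8 : 9 ≤ u := by
    obtain ⟨k, hk⟩ := h3
    rcases k with _ | k
    · omega
    · omega
  have hs' := hsmall hs (by omega) hms
  have hu' := hsmall hu (by omega) hmu
  have hsle : s ≤ 78 := by
    by_contra hcon
    rw [Nat.mod_eq_of_lt (by omega)] at hs'
    omega
  have hule : u ≤ 78 := by
    by_contra hcon
    rw [Nat.mod_eq_of_lt (by omega)] at hu'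
    omega
  have hℓc : ℓ = 19 ∨ ℓ = 37 ∨ ℓ = 73 := by
    have h5 : ℓ % 9 = 1 := by omega
    have h6 : ∀ v : ℕ, v ≤ 78 → v % 9 = 1 → v.Prime → v = 19 ∨ v = 37 ∨ v = 73 := by decide
    exact h6 ℓ (hℓm.trans hm) h5 hℓ
  have hsc : s = 13 ∨ s = 37 ∨ s = 61 ∨ s = 73 := by
    have h5 : s % 12 = 1 := by omega
    have h6 : ∀ v : ℕ, v ≤ 78 → v % 12 = 1 → v.Prime → v = 13 ∨ v = 37 ∨ v = 61 ∨ v = 73 := by decide
    exact h6 s hsle h5 hs
  have huc : u = 17 ∨ u = 41 ∨ u = 73 := by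
    have h5 : u % 8 = 1 := by omega
    have h6 : ∀ v : ℕ, v ≤ 78 → v % 8 = 1 → v.Prime → v = 17 ∨ v = 41 ∨ v = 73 := by decide
    exact h6 u hule h5 hu
  obtain ⟨k, rfl⟩ := hd
  have hk : k ≤ 4 := by
    rcases hℓc with rfl | rfl | rfl <;> omega
  rcases hℓc with rfl | rfl | rfl <;> rcases hsc with rfl | rfl | rfl | rfl <;> rcases huc with rfl | rfl | rfl <;>
    interval_cases k <;> omega

/-! ### the radical -/

section Rad

variable {F : Type*} [Field F] {ι : Type*} [Fintype ι] [DecidableEq ι] {G : Type*} [Group G] [Finite G] {p : ℕ}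

theorem eq_bot_of_solv (hp : ∀ A : Subgroup G, A.Normal → IsPGroup p A → A = ⊥)
    (hkill : ∀ t : ℕ, t.Prime → t ≠ p → ∀ A : Subgroup G, A.Normal → (∀ a ∈ A, ∀ b ∈ A, a * b = b * a) →
      (∀ a ∈ A, a ^ t = 1) → A = ⊥)
    (S : Subgroup G) (hS : S.Normal) (hs : Group.IsSolvable S) : S = ⊥ := by
  by_contra hne
  obtain ⟨t, ht, A, hAn, hA0, hAc, hAt⟩ := exists_elem hS hs hne
  by_cases htp : t = p
  · subst htp
    exact hA0 (hp A hAn fun a => ⟨1, by rw [pow_one]; exact Subtype.ext (hAt a a.2)⟩)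
  · exact hA0 (hkill t ht htp A hAn hAc hAt)

theorem free_of_cd {r N t : ℕ} (hcd : CD G r N) (ht : t.Prime) (htN : ¬ t ∣ N) {x : G} (hx : orderOf x = r) {a : G}
    (ha : a ^ t = 1) (hxa : x * a = a * x) : a = 1 := by
  have := Fact.mk ht
  by_contra hne
  have h1 : orderOf a = t := orderOf_eq_prime ha hne
  have h2 : a ∈ Subgroup.centralizer ({x} : Set G) := Subgroup.mem_centralizer_singleton_iff.2 hxa.symm
  have h3 : orderOf (⟨a, h2⟩ : ↥(Subgroup.centralizer ({x} : Set G))) ∣ N :=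
    (orderOf_dvd_natCard _).trans (hcd x hx)
  rw [Subgroup.orderOf_mk, h1] at h3
  exact htN h3

/-- **Three classes with cyclic centralisers.** -/
theorem rad_tri [Fact p.Prime] [CharP F p] {τ : G →* GL ι F} (hτ : Function.Injective τ) (hn : Fintype.card ι = 78)
    (hp : ∀ A : Subgroup G, A.Normal → IsPGroup p A → A = ⊥) {ℓ s u N₁ N₂ N₃ : ℕ} (hℓ : ℓ.Prime) (hs : s.Prime)
    (hu : u.Prime) (h1 : 9 ∣ ℓ - 1) (h2 : 12 ∣ s - 1) (h3 : 8 ∣ u - 1) (hls : ℓ ≠ s) (hlu : ℓ ≠ u) (hsu : s ≠ u)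
    (hdl : ℓ ∣ Nat.card G) (hds : s ∣ Nat.card G) (hdu : u ∣ Nat.card G)
    (c1 : CC G ℓ ∧ CD G ℓ N₁) (c2 : CC G s ∧ CD G s N₂) (c3 : CC G u ∧ CD G u N₃) (hN3 : ¬ 3 ∣ N₁)
    (n12 : ∀ t : ℕ, t.Prime → t ≠ 3 → t ∣ N₁ → ¬ t ∣ N₂) (n13 : ∀ t : ℕ, t.Prime → t ≠ 3 → t ∣ N₁ → ¬ t ∣ N₃)
    (n23 : ∀ t : ℕ, t.Prime → t ≠ 3 → t ∣ N₂ → ¬ t ∣ N₃)
    (S : Subgroup G) (hS : S.Normal) (hsol : Group.IsSolvable S) : S = ⊥ := by
  have := Fact.mk hℓ
  have := Fact.mk hs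
  have := Fact.mk hu
  obtain ⟨x, hx⟩ := exists_prime_orderOf_dvd_card' ℓ hdl
  obtain ⟨y, hy⟩ := exists_prime_orderOf_dvd_card' s hds
  obtain ⟨z, hz⟩ := exists_prime_orderOf_dvd_card' u hdu
  have b1 : 10 ≤ ℓ := by
    obtain ⟨k, hk⟩ := h1
    have := hℓ.two_le
    rcases k with _ | k <;> omega
  have b2 : 13 ≤ s := by
    obtain ⟨k, hk⟩ := h2
    have := hs.two_le
    rcases k with _ | k <;> omega
  have b3 : 9 ≤ u := by
    obtain ⟨k, hk⟩ := h3
    have := hu.two_le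
    rcases k with _ | k <;> omega
  refine eq_bot_of_solv hp (fun t ht htp A hAn hAc hAt => ?_) S hS hsol
  have hPt : IsPGroup t A := fun a => ⟨1, by rw [pow_one]; exact Subtype.ext (hAt a a.2)⟩
  have hpA : ¬ p ∣ Nat.card A := by
    intro h
    have := Fact.mk ht
    obtain ⟨k, hk⟩ := IsPGroup.iff_card.1 hPt
    rw [hk] at h
    exact htp ((Nat.prime_dvd_prime_iff_eq Fact.out ht).1 ((Fact.out : p.Prime).dvd_of_dvd_pow h)).symm
  by_cases ht3 : t = 3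
  · subst ht3
    refine eq_bot_of_cong hτ hAc ht htp hAt hℓ hs hu hx hy hz
      (fun a ha h => free_of_cd c1.2 ht hN3 hx (hAt a ha) h) (card_comm_le ht hAt (c2.1 y hy))
      (card_comm_le ht hAt (c3.1 z hz)) fun m h0 hm hd hms hmu => ?_
    exact num78 hℓ hs hu h1 h2 h3 hls hlu hsu h0 (hn ▸ hm) hd hms hmu
  · by_cases t1 : t ∣ N₁
    · refine eq_bot_of_free hτ hAc hpA hs hu hsu hy hz
        (fun a ha h => free_of_cd c2.2 ht (n12 t ht ht3 t1) hy (hAt a ha) h)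
        (fun a ha h => free_of_cd c3.2 ht (n13 t ht ht3 t1) hz (hAt a ha) h) ?_
      rw [hn]; nlinarith
    · by_cases t2 : t ∣ N₂
      · refine eq_bot_of_free hτ hAc hpA hℓ hu hlu hx hz
          (fun a ha h => free_of_cd c1.2 ht t1 hx (hAt a ha) h)
          (fun a ha h => free_of_cd c3.2 ht (n23 t ht ht3 t2) hz (hAt a ha) h) ?_
        rw [hn]; nlinarith
      · refine eq_bot_of_free hτ hAc hpA hℓ hs hls hx hy
          (fun a ha h => free_of_cd c1.2 ht t1 hx (hAt a ha) h)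
          (fun a ha h => free_of_cd c2.2 ht t2 hy (hAt a ha) h) ?_
        rw [hn]; nlinarith

end Rad

end Cfsg.Agent.H190.Exc
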