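import Cfsg.Agent.H190.Exc.RadE6
import Cfsg.Agent.H325.IsoExc
import Cfsg.Agent.H325.Same.ExcRow
import Cfsg.Agent.H171.EqF.ER

/-!
# TEAM ELUSIVE: `E₆(q)`, `²E₆(q)`

`full_e6`, `full_te6` : a subgroup whose order is divisible by all prime divisors of the order of the group is the whole
group.
-/

set_option autoImplicit false

namespace Cfsg.Agent.H190.Exc

open Cfsg Cfsg.Lie Cfsg.Agent.OrdDiv Cfsg.Agent.H436 Cfsg.Agent.H915.GN Cfsg.Agent.H264.FKS Cfsg.Agent.H902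
  Cfsg.Agent.H902.Names Cfsg.Agent.H290.ElReg Cfsg.Agent.H290.ElTab Cfsg.Agent.H290.ElCross Cfsg.Agent.H290.ElEng
  Cfsg.Agent.H290.ElRich Cfsg.Agent.H325.Loc Cfsg.Agent.H325.IsoExc

/-! ### general steps -/

theorem no_two_mul {G : Type*} [Group G] [Finite G] {r N : ℕ} (hcd : CD G r N) (h2 : ¬ 2 ∣ N) :
    ∀ g : G, orderOf g ≠ 2 * r := by
  intro g hg
  have h1 : orderOf (g ^ 2) = r := by
    rw [orderOf_pow' g (by norm_num), hg, Nat.gcd_eq_right (Dvd.intro _ rfl), Nat.mul_div_cancel_left _ (by norm_num)]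
  have h3 : g ∈ Subgroup.centralizer ({g ^ 2} : Set G) :=
    Subgroup.mem_centralizer_singleton_iff.2 (by rw [← pow_succ, ← pow_succ'])
  have h4 : orderOf (⟨g, h3⟩ : ↥(Subgroup.centralizer ({g ^ 2} : Set G))) ∣ N :=
    (orderOf_dvd_natCard _).trans (hcd _ h1)
  rw [Subgroup.orderOf_mk, hg] at h4
  exact h2 ((Dvd.intro _ rfl).trans h4)

theorem no_p_normal {T : Type*} [Group T] [Finite T] {p u : ℕ} (h : PIso p u T) {R : Subgroup T}
    (hu : u ∣ Nat.card R) (A : Subgroup R) (hA : A.Normal) (hAp : IsPGroup p A) : A = ⊥ := by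
  by_contra hne
  have h1 : A.map R.subtype ≠ ⊥ := by
    rw [Ne, Subgroup.map_eq_bot_iff_of_injective _ R.subtype_injective]
    exact hne
  refine h.of_le (Q := A.map R.subtype) (H := R) (hAp.map _) h1 ?_ hu
  rintro x hx _ ⟨y, hy, rfl⟩
  exact ⟨⟨x, hx⟩ * y * ⟨x, hx⟩⁻¹, hA.conj_mem y hy _, rfl⟩

/-! ### arithmetic -/

section Num

variable {q t : ℕ}

theorem not_three_dvd9 (hq : 1 ≤ q) : ¬ 3 ∣ (q ^ 6 + q ^ 3 + 1) / Nat.gcd 3 (q - 1) := by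
  intro h
  have hz : ∀ n : ℕ, n ∣ q ^ 6 + q ^ 3 + 1 → ((q : ZMod n) ^ 6 + (q : ZMod n) ^ 3 + 1 = 0) := by
    intro n h
    rw [← ZMod.natCast_eq_zero_iff] at h
    push_cast at h
    exact h
  by_cases h3 : 3 ∣ q - 1
  · rw [Nat.gcd_eq_left h3] at h
    have h4 : 3 ∣ q ^ 6 + q ^ 3 + 1 := by
      rw [← ZMod.natCast_eq_zero_iff]
      have h7 := (ZMod.natCast_eq_zero_iff (q - 1) 3).2 h3
      rw [Nat.cast_sub (by omega), Nat.cast_one, sub_eq_zero] at h7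
      push_cast
      rw [h7]
      decide
    have h5 : 9 ∣ q ^ 6 + q ^ 3 + 1 := by
      obtain ⟨m, hm⟩ := h
      refine ⟨m, ?_⟩
      have := Nat.mul_div_cancel' h4
      rw [← this, hm]
      ring
    have h6 := hz 9 h5
    generalize (q : ZMod 9) = x at h6; revert h6; revert x; decide
  · rw [(Nat.Prime.coprime_iff_not_dvd Nat.prime_three).2 h3, Nat.div_one] at h
    apply h3
    have h6 := hz 3 h
    have h7 : (q : ZMod 3) = 1 := by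
      generalize (q : ZMod 3) = x at h6 ⊢; revert h6; revert x; decide
    rw [← ZMod.natCast_eq_zero_iff, Nat.cast_sub (by omega), h7]
    norm_num

theorem not_three_dvd18 (hq : 1 ≤ q) : ¬ 3 ∣ (q ^ 6 - q ^ 3 + 1) / Nat.gcd 3 (q + 1) := by
  intro h
  have hle : q ^ 3 ≤ q ^ 6 := Nat.pow_le_pow_right hq (by norm_num)
  have hz : ∀ n : ℕ, n ∣ q ^ 6 - q ^ 3 + 1 → ((q : ZMod n) ^ 6 - (q : ZMod n) ^ 3 + 1 = 0) := by
    intro n h
    rw [← ZMod.natCast_eq_zero_iff, Nat.cast_add, Nat.cast_sub hle] at h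
    push_cast at h
    exact h
  by_cases h3 : 3 ∣ q + 1
  · rw [Nat.gcd_eq_left h3] at h
    have h4 : 3 ∣ q ^ 6 - q ^ 3 + 1 := by
      rw [← ZMod.natCast_eq_zero_iff, Nat.cast_add, Nat.cast_sub hle]
      have h7 := (ZMod.natCast_eq_zero_iff (q + 1) 3).2 h3
      push_cast at h7
      have h8 : (q : ZMod 3) = -1 := eq_neg_of_add_eq_zero_left h7
      push_cast
      rw [h8]
      decide
    have h5 : 9 ∣ q ^ 6 - q ^ 3 + 1 := by
      obtain ⟨m, hm⟩ := h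
      refine ⟨m, ?_⟩
      have := Nat.mul_div_cancel' h4
      rw [← this, hm]
      ring
    have h6 := hz 9 h5
    generalize (q : ZMod 9) = x at h6; revert h6; revert x; decide
  · rw [(Nat.Prime.coprime_iff_not_dvd Nat.prime_three).2 h3, Nat.div_one] at h
    apply h3
    have h6 := hz 3 h
    have h7 : (q : ZMod 3) = -1 := by
      generalize (q : ZMod 3) = x at h6 ⊢; revert h6; revert x; decide
    rw [← ZMod.natCast_eq_zero_iff]
    push_cast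
    rw [h7]
    decide

theorem eq_three_of {t : ℕ} (ht : t.Prime) (h : (3 : ZMod t) = 0) : t = 3 := by
  have h1 : ((3 : ℕ) : ZMod t) = 0 := by exact_mod_cast h
  rw [ZMod.natCast_eq_zero_iff] at h1
  exact (Nat.prime_dvd_prime_iff_eq ht Nat.prime_three).1 h1

/-- the three torus orders, `a = ± q` -/
theorem tri_num {N₁ N₂ N₃ : ℕ} {a : ℤ} (h1 : ∀ t : ℕ, t ∣ N₁ → (t : ℤ) ∣ a ^ 6 + a ^ 3 + 1)
    (h2 : (N₂ : ℤ) = (a ^ 4 - a ^ 2 + 1) * (a ^ 2 + a + 1)) (h3 : (N₃ : ℤ) = (a ^ 4 + 1) * (a ^ 2 - 1)) :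
    (∀ t : ℕ, t.Prime → t ≠ 3 → t ∣ N₁ → ¬ t ∣ N₂) ∧ (∀ t : ℕ, t.Prime → t ≠ 3 → t ∣ N₁ → ¬ t ∣ N₃) ∧
      (∀ t : ℕ, t.Prime → t ≠ 3 → t ∣ N₂ → ¬ t ∣ N₃) := by
  have e1 : ∀ t : ℕ, t ∣ N₁ → (a : ZMod t) ^ 6 + (a : ZMod t) ^ 3 + 1 = 0 := by
    intro t ht
    have := (ZMod.intCast_zmod_eq_zero_iff_dvd _ t).2 (h1 t ht)
    push_cast at this
    exact this
  have e2 : ∀ t : ℕ, t ∣ N₂ → ((a : ZMod t) ^ 4 - (a : ZMod t) ^ 2 + 1) * ((a : ZMod t) ^ 2 + a + 1) = 0 := by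
    intro t ht
    have := (ZMod.intCast_zmod_eq_zero_iff_dvd (N₂ : ℤ) t).2 (Int.natCast_dvd_natCast.2 ht)
    rw [h2] at this
    push_cast at this
    exact this
  have e3 : ∀ t : ℕ, t ∣ N₃ → ((a : ZMod t) ^ 4 + 1) * ((a : ZMod t) ^ 2 - 1) = 0 := by
    intro t ht
    have := (ZMod.intCast_zmod_eq_zero_iff_dvd (N₃ : ℤ) t).2 (Int.natCast_dvd_natCast.2 ht)
    rw [h3] at this
    push_cast at this
    exact this
  refine ⟨fun t ht h5 h6 h7 => ?_, fun t ht h5 h6 h7 => ?_, fun t ht h5 h6 h7 => ?_⟩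
  · have := Fact.mk ht
    exact h5 (eq_three_of ht (ar1 (e1 t h6) (e2 t h7)))
  · have := Fact.mk ht
    exact h5 (eq_three_of ht (ar2 (e1 t h6) (e3 t h7)))
  · have := Fact.mk ht
    exact h5 (eq_three_of ht (ar3 (e2 t h6) (e3 t h7)))

/-- three distinct odd numbers -/
theorem gap {P : ℕ → Prop} {a b c : ℕ} (ha : P a) (hb : P b) (hc : P c) (a1 : a % 2 = 1) (b1 : b % 2 = 1)
    (c1 : c % 2 = 1) (hab : a ≠ b) (hac : a ≠ c) (hbc : b ≠ c) : ∃ r s, P r ∧ P s ∧ r + 4 ≤ s := by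
  have h : a + 4 ≤ b ∨ b + 4 ≤ a ∨ a + 4 ≤ c ∨ c + 4 ≤ a ∨ b + 4 ≤ c ∨ c + 4 ≤ b := by omega
  rcases h with h | h | h | h | h | h
  · exact ⟨a, b, ha, hb, h⟩
  · exact ⟨b, a, hb, ha, h⟩
  · exact ⟨a, c, ha, hc, h⟩
  · exact ⟨c, a, hc, ha, h⟩
  · exact ⟨b, c, hb, hc, h⟩
  · exact ⟨c, b, hc, hb, h⟩

end Num

theorem two_dvd_of_simple {T : Type*} [Group T] [Finite T] (h : IsSimpleGroup T ∧ ¬ IsMulCommutative T) :
    2 ∣ Nat.card T := by
  have h1 := h.1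
  by_contra h2
  exact h.2 ⟨⟨IsSimpleGroup.comm_iff_isSolvable.2
    (Cfsg.Agent.S0205.result (Nat.not_even_iff_odd.1 fun h3 => h2 (even_iff_two_dvd.1 h3)))⟩⟩

theorem fth_le {ι : Type} [Fintype ι] [DecidableEq ι] {F : Type} [Field F] {G : Subgroup (Matrix.GeneralLinearGroup ι F)}
    {n : ℕ} (hn : Fintype.card ι = n) : Fth n F ↥G := hn ▸ Fth.of G.subtype_injective

/-- **`E₆(q)`.** -/
theorem full_e6 (OT' : OrderTable.{0})
    (hS0 : ∀ (X : Type) [Group X] [Finite X] [IsSimpleGroup X], IsKnownSimple' X) (has : ASThm.{0})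
    (hrf : RichFix.{0}) {F : Type} [Field F] [Fintype F] {R : Subgroup ↥(chevE6.group F)}
    (hfull : Full ↥(chevE6.group F) R) : R = ⊤ := by
  obtain ⟨p, f, hp, hf, hF⟩ := Names.exists_pp F
  have := Fact.mk hp
  have hch : CharP F p := H290.ElReg.charP_of_pow hp hF
  have hT : IsNamed (.e6 (p ^ f)) ↥(chevE6.group F) := by
    refine .mk' ⟨F, inferInstance, inferInstance, hF, ⟨MulEquiv.refl _⟩⟩ (hp.isPrimePow.pow (by omega)) ?_
    change Nat.gcd 3 (p ^ f - 1) * _ = _ ^ 36 * _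
    rw [OT'.e6 F _ hF]; ring
  have hq1 : 1 ≤ p ^ f := Nat.one_le_pow _ _ hp.pos
  have hq2 : 2 ≤ p ^ f := by rw [← hF]; exact Fintype.one_lt_card
  have pb : ∀ {e r : ℕ}, Prim p (e * f) r → Prim (p ^ f) e r := fun h => Prim.powBase hf h
  have dv : ∀ {e r : ℕ}, 3 ≤ e → e ∈ [2, 5, 6, 8, 9, 12] → Prim (p ^ f) e r → r ∣ Nat.card ↥(chevE6.group F) :=
    fun he hm h => H325.Same.dvd_e6 hT he h hm dvd_rfl
  have hex : ∀ e, 8 ≤ e → ∃ r, Prim p (e * f) r := fun e he =>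
    exists_prim hp.two_le (by nlinarith) (by rintro ⟨-, h⟩; nlinarith)
  obtain ⟨ℓ, hℓ⟩ := hex 9 (by norm_num)
  obtain ⟨s, hs⟩ := hex 12 (by norm_num)
  obtain ⟨u, hu⟩ := hex 8 (by norm_num)
  have c1 := e6_9 hF (pb hℓ)
  have c2 := e6_12 hF (pb hs)
  have c3 := e6_8 hF (pb hu)
  have d1 := dv (by norm_num) (by simp) (pb hℓ)
  have d2 := dv (by norm_num) (by simp) (pb hs)
  have d3 := dv (by norm_num) (by simp) (pb hu)
  have hls : ℓ ≠ s := by rintro rfl; have := Prim.unique (pb hℓ) (pb hs); omega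
  have hlu : ℓ ≠ u := by rintro rfl; have := Prim.unique (pb hℓ) (pb hu); omega
  have hsu : s ≠ u := by rintro rfl; have := Prim.unique (pb hs) (pb hu); omega
  have hle : (p ^ f) ^ 2 ≤ (p ^ f) ^ 4 := Nat.pow_le_pow_right (by omega) (by norm_num)
  have hle1 : 1 ≤ (p ^ f) ^ 2 := Nat.one_le_pow _ _ (by omega)
  have hdiv : (((p ^ f) ^ 6 + (p ^ f) ^ 3 + 1) / Nat.gcd 3 (p ^ f - 1)) ∣ (p ^ f) ^ 6 + (p ^ f) ^ 3 + 1 := by
    refine Nat.div_dvd_of_dvd ?_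
    rcases (Nat.dvd_prime Nat.prime_three).1 (Nat.gcd_dvd_left 3 (p ^ f - 1)) with h4 | h4
    · rw [h4]; exact one_dvd _
    · rw [h4, ← ZMod.natCast_eq_zero_iff]
      have h5 : 3 ∣ p ^ f - 1 := h4 ▸ Nat.gcd_dvd_right 3 (p ^ f - 1)
      have h7 := (ZMod.natCast_eq_zero_iff (p ^ f - 1) 3).2 h5
      rw [Nat.cast_sub (by omega), Nat.cast_one, sub_eq_zero] at h7
      have h8 : (((p ^ f) ^ 6 + (p ^ f) ^ 3 + 1 : ℕ) : ZMod 3) = ((p ^ f : ℕ) : ZMod 3) ^ 6 +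
        ((p ^ f : ℕ) : ZMod 3) ^ 3 + 1 := by push_cast; ring
      rw [h8, h7]
      decide
  obtain ⟨n12, n13, n23⟩ := tri_num (N₁ := ((p ^ f) ^ 6 + (p ^ f) ^ 3 + 1) / Nat.gcd 3 (p ^ f - 1))
    (N₂ := ((p ^ f) ^ 4 - (p ^ f) ^ 2 + 1) * ((p ^ f) ^ 2 + p ^ f + 1)) (N₃ := ((p ^ f) ^ 4 + 1) * ((p ^ f) ^ 2 - 1))
    (a := ((p ^ f : ℕ) : ℤ)) (fun t ht => by
      have := Int.natCast_dvd_natCast.2 (ht.trans hdiv)
      push_cast at this ⊢
      exact this) (by push_cast [Nat.cast_sub hle]; ring) (by push_cast [Nat.cast_sub hle1]; ring)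
  have h2N : ¬ 2 ∣ ((p ^ f) ^ 6 + (p ^ f) ^ 3 + 1) / Nat.gcd 3 (p ^ f - 1) := by
    intro h
    have h1 := h.trans hdiv
    rw [← ZMod.natCast_eq_zero_iff] at h1
    have h8 : (((p ^ f) ^ 6 + (p ^ f) ^ 3 + 1 : ℕ) : ZMod 2) = ((p ^ f : ℕ) : ZMod 2) ^ 6 +
        ((p ^ f : ℕ) : ZMod 2) ^ 3 + 1 := by push_cast; ring
    rw [h8] at h1
    generalize ((p ^ f : ℕ) : ZMod 2) = x at h1; revert h1; revert x; decide
  have hi : Function.Injective R.subtype := R.subtype_injective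
  have hrad : ∀ N : Subgroup R, N.Normal → Group.IsSolvable N → N = ⊥ :=
    rad_tri (τ := (chevE6.group F).subtype.comp R.subtype)
      ((chevE6.group F).subtype_injective.comp hi) (by rfl)
      (no_p_normal (piso_E6 (p := p) (hF ▸ pb hℓ)) (hfull ℓ hℓ.prime d1)) hℓ.prime hs.prime hu.prime
      (prim_dvd_sub (pb hℓ) hq1) (prim_dvd_sub (pb hs) hq1) (prim_dvd_sub (pb hu) hq1) hls hlu hsu
      (hfull ℓ hℓ.prime d1) (hfull s hs.prime d2) (hfull u hu.prime d3)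
      ⟨CC.of_inj (ι := R.subtype) hi c1.1, CD.of_inj (ι := R.subtype) hi c1.2⟩
      ⟨CC.of_inj (ι := R.subtype) hi c2.1, CD.of_inj (ι := R.subtype) hi c2.2⟩
      ⟨CC.of_inj (ι := R.subtype) hi c3.1, CD.of_inj (ι := R.subtype) hi c3.2⟩ (not_three_dvd9 hq1) n12 n13 n23
  have o : ∀ {e r : ℕ}, 3 ≤ e → Prim (p ^ f) e r → r % 2 = 1 := fun he h => Prim.odd h (by omega)
  obtain ⟨S, hSn, hSs, hSna, hSc, g, hg, hgc⟩ := exists_char OT' hS0 has hrf (Y := .E6) (by decide) (n := 78)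
    (by norm_num) surv_E6 survS_E6 (p := p) (f := f) (F := F) (fth_le (by rfl)) ⟨hp, hf, trivial, hT.eq⟩
    ((Nat.gcd_dvd_left 3 (p ^ f - 1)).trans (by norm_num)) (fun e he r hr => by
      have he' : e = 12 ∨ e = 9 ∨ e = 8 := by simpa [ER] using he
      rcases he' with rfl | rfl | rfl
      · exact ⟨by have := prim_gt (pb hr) hq1; omega, dv (by norm_num) (by simp) (pb hr), (e6_12 hF (pb hr)).1⟩
      · exact ⟨by have := prim_gt (pb hr) hq1; omega, dv (by norm_num) (by simp) (pb hr), (e6_9 hF (pb hr)).1⟩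
      · exact ⟨by have := prim_gt (pb hr) hq1; omega, dv (by norm_num) (by simp) (pb hr), (e6_8 hF (pb hr)).1⟩)
    (gap (P := fun r => ∃ e ∈ ER .E6, Prim p (e * f) r) ⟨9, by decide, hℓ⟩ ⟨12, by decide, hs⟩ ⟨8, by decide, hu⟩
      (o (by norm_num) (pb hℓ)) (o (by norm_num) (pb hs)) (o (by norm_num) (pb hu)) hls hlu hsu)
    hℓ.prime (by have := prim_gt (pb hℓ) hq1; omega) d1 (no_two_mul c1.2 h2N)
    (two_dvd_of_simple (Cfsg.Agent.S1054.result (F := F) chevE6 (by simp))) hfull hrad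
  exact H325.Same.row_e6 hT hp hf hfull S hSna hSc hg hgc

/-- **`²E₆(q)`.** -/
theorem full_te6 (OT' : OrderTable.{0})
    (hS0 : ∀ (X : Type) [Group X] [Finite X] [IsSimpleGroup X], IsKnownSimple' X) (has : ASThm.{0})
    (hrf : RichFix.{0}) {K : Type} [Field K] [Fintype K] {q : ℕ} (hq : IsPrimePow q) (hK : Fintype.card K = q ^ 2)
    {R : Subgroup ↥(twistedE6 K q)} (hfull : Full ↥(twistedE6 K q) R) : R = ⊤ := by
  obtain ⟨p, f, hp', hf, hpf⟩ := id hq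
  have hp : p.Prime := hp'.nat_prime
  have := Fact.mk hp
  subst hpf
  have hch : CharP K p := H290.ElReg.charP_of_pow hp (a := f * 2) (by rw [hK, ← pow_mul])
  have hT : IsNamed (.te6 (p ^ f)) ↥(twistedE6 K (p ^ f)) := by
    refine .mk' ⟨K, inferInstance, inferInstance, hK, ⟨MulEquiv.refl _⟩⟩ hq ?_
    change Nat.gcd 3 (p ^ f + 1) * _ = _ ^ 36 * _
    rw [OT'.te6 K _ hq hK]; ring
  have hq1 : 1 ≤ p ^ f := Nat.one_le_pow _ _ hp.pos
  have hq2 : 2 ≤ p ^ f := hq.two_le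
  have pb : ∀ {e r : ℕ}, Prim p (e * f) r → Prim (p ^ f) e r := fun h => Prim.powBase hf h
  have dv : ∀ {e r : ℕ}, 3 ≤ e → (e ∣ 6 ∨ e ∣ 8 ∨ e ∣ 12 ∨ e = 10 ∨ e = 18) → Prim (p ^ f) e r →
      r ∣ Nat.card ↥(twistedE6 K (p ^ f)) := fun he hm h => H325.Same.dvd_te6 hT he h hm
  have hex : ∀ e, 8 ≤ e → ∃ r, Prim p (e * f) r := fun e he =>
    exists_prim hp.two_le (by nlinarith) (by rintro ⟨-, h⟩; nlinarith)
  obtain ⟨ℓ, hℓ⟩ := hex 18 (by norm_num)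
  obtain ⟨s, hs⟩ := hex 12 (by norm_num)
  obtain ⟨u, hu⟩ := hex 8 (by norm_num)
  have c1 := te6_18 hq hK (pb hℓ)
  have c2 := te6_12 hq hK (pb hs)
  have c3 := te6_8 hq hK (pb hu)
  have d1 := dv (by norm_num) (by norm_num) (pb hℓ)
  have d2 := dv (by norm_num) (by norm_num) (pb hs)
  have d3 := dv (by norm_num) (by norm_num) (pb hu)
  have hls : ℓ ≠ s := by rintro rfl; have := Prim.unique (pb hℓ) (pb hs); omega
  have hlu : ℓ ≠ u := by rintro rfl; have := Prim.unique (pb hℓ) (pb hu); omega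
  have hsu : s ≠ u := by rintro rfl; have := Prim.unique (pb hs) (pb hu); omega
  have hle : (p ^ f) ^ 2 ≤ (p ^ f) ^ 4 := Nat.pow_le_pow_right (by omega) (by norm_num)
  have hle3 : (p ^ f) ^ 3 ≤ (p ^ f) ^ 6 := Nat.pow_le_pow_right (by omega) (by norm_num)
  have hleq : p ^ f ≤ (p ^ f) ^ 2 := Nat.le_self_pow (by norm_num) _
  have hle1 : 1 ≤ (p ^ f) ^ 2 := Nat.one_le_pow _ _ (by omega)
  have hz : ∀ n : ℕ, (((p ^ f) ^ 6 - (p ^ f) ^ 3 + 1 : ℕ) : ZMod n) = ((p ^ f : ℕ) : ZMod n) ^ 6 -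
      ((p ^ f : ℕ) : ZMod n) ^ 3 + 1 := fun n => by
    rw [Nat.cast_add, Nat.cast_sub hle3]; push_cast; ring
  have hdiv : (((p ^ f) ^ 6 - (p ^ f) ^ 3 + 1) / Nat.gcd 3 (p ^ f + 1)) ∣ (p ^ f) ^ 6 - (p ^ f) ^ 3 + 1 := by
    refine Nat.div_dvd_of_dvd ?_
    rcases (Nat.dvd_prime Nat.prime_three).1 (Nat.gcd_dvd_left 3 (p ^ f + 1)) with h4 | h4
    · rw [h4]; exact one_dvd _
    · rw [h4, ← ZMod.natCast_eq_zero_iff, hz]
      have h5 : 3 ∣ p ^ f + 1 := h4 ▸ Nat.gcd_dvd_right 3 (p ^ f + 1)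
      have h7 := (ZMod.natCast_eq_zero_iff (p ^ f + 1) 3).2 h5
      rw [Nat.cast_add, Nat.cast_one] at h7
      rw [eq_neg_of_add_eq_zero_left h7]
      decide
  obtain ⟨n12, n13, n23⟩ := tri_num (N₁ := ((p ^ f) ^ 6 - (p ^ f) ^ 3 + 1) / Nat.gcd 3 (p ^ f + 1))
    (N₂ := ((p ^ f) ^ 4 - (p ^ f) ^ 2 + 1) * ((p ^ f) ^ 2 - p ^ f + 1)) (N₃ := ((p ^ f) ^ 4 + 1) * ((p ^ f) ^ 2 - 1))
    (a := -((p ^ f : ℕ) : ℤ)) (fun t ht => by
      have h1 := Int.natCast_dvd_natCast.2 (ht.trans hdiv)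
      have h2 : (((p ^ f) ^ 6 - (p ^ f) ^ 3 + 1 : ℕ) : ℤ) = (-((p ^ f : ℕ) : ℤ)) ^ 6 + (-((p ^ f : ℕ) : ℤ)) ^ 3 + 1 := by
        rw [Nat.cast_add, Nat.cast_sub hle3]; push_cast; ring
      rwa [h2] at h1) (by push_cast [Nat.cast_sub hle, Nat.cast_sub hleq]; ring)
    (by push_cast [Nat.cast_sub hle1]; ring)
  have h2N : ¬ 2 ∣ ((p ^ f) ^ 6 - (p ^ f) ^ 3 + 1) / Nat.gcd 3 (p ^ f + 1) := by
    intro h
    have h1 := h.trans hdiv
    rw [← ZMod.natCast_eq_zero_iff, hz] at h1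
    generalize ((p ^ f : ℕ) : ZMod 2) = x at h1; revert h1; revert x; decide
  have hi : Function.Injective R.subtype := R.subtype_injective
  have hrad : ∀ N : Subgroup R, N.Normal → Group.IsSolvable N → N = ⊥ :=
    rad_tri (τ := (twistedE6 K (p ^ f)).subtype.comp R.subtype)
      ((twistedE6 K (p ^ f)).subtype_injective.comp hi) (by rfl)
      (no_p_normal (piso_twE6 (p := p) hq hK (d := 18) (Or.inr rfl) (pb hℓ)) (hfull ℓ hℓ.prime d1)) hℓ.prime hs.prime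
      hu.prime ((by norm_num : 9 ∣ 18).trans (prim_dvd_sub (pb hℓ) hq1)) (prim_dvd_sub (pb hs) hq1)
      (prim_dvd_sub (pb hu) hq1) hls hlu hsu
      (hfull ℓ hℓ.prime d1) (hfull s hs.prime d2) (hfull u hu.prime d3)
      ⟨CC.of_inj (ι := R.subtype) hi c1.1, CD.of_inj (ι := R.subtype) hi c1.2⟩
      ⟨CC.of_inj (ι := R.subtype) hi c2.1, CD.of_inj (ι := R.subtype) hi c2.2⟩
      ⟨CC.of_inj (ι := R.subtype) hi c3.1, CD.of_inj (ι := R.subtype) hi c3.2⟩ (not_three_dvd18 hq1) n12 n13 n23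
  have o : ∀ {e r : ℕ}, 3 ≤ e → Prim (p ^ f) e r → r % 2 = 1 := fun he h => Prim.odd h (by omega)
  obtain ⟨S, hSn, hSs, hSna, hSc, g, hg, hgc⟩ := exists_char OT' hS0 has hrf (Y := .TE6) (by decide) (n := 78)
    (by norm_num) surv_TE6 survS_TE6 (p := p) (f := f) (F := K) (fth_le (by rfl)) ⟨hp, hf, trivial, hT.eq⟩
    ((Nat.gcd_dvd_left 3 (p ^ f + 1)).trans (by norm_num)) (fun e he r hr => by
      have he' : e = 18 ∨ e = 12 ∨ e = 8 := by simpa [ER] using he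
      rcases he' with rfl | rfl | rfl
      · exact ⟨by have := prim_gt (pb hr) hq1; omega, dv (by norm_num) (by norm_num) (pb hr), (te6_18 hq hK (pb hr)).1⟩
      · exact ⟨by have := prim_gt (pb hr) hq1; omega, dv (by norm_num) (by norm_num) (pb hr), (te6_12 hq hK (pb hr)).1⟩
      · exact ⟨by have := prim_gt (pb hr) hq1; omega, dv (by norm_num) (by norm_num) (pb hr), (te6_8 hq hK (pb hr)).1⟩)
    (gap (P := fun r => ∃ e ∈ ER .TE6, Prim p (e * f) r) ⟨18, by decide, hℓ⟩ ⟨12, by decide, hs⟩ ⟨8, by decide, hu⟩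
      (o (by norm_num) (pb hℓ)) (o (by norm_num) (pb hs)) (o (by norm_num) (pb hu)) hls hlu hsu)
    hℓ.prime (by have := prim_gt (pb hℓ) hq1; omega) d1 (no_two_mul c1.2 h2N)
    (two_dvd_of_simple (Cfsg.Agent.S1070.result hq hK)) hfull hrad
  exact H325.Same.row_te6 hT hp hf hfull S hSna hSc hg hgc

end Cfsg.Agent.H190.Exc
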